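import Cfsg.Agent.Lib.Spor.HSType.Cert.CocCom.Part0

/-!
A commutator in the nonsplit extension: the assembled checks.
-/

set_option autoImplicit false

namespace CfsgLib.Spor.HSType.Cert.CocCom

open CfsgLib.Spor.TC

theorem steps_ok : cert.SStepsOK 0 1725 :=
  steps0

set_option maxRecDepth 100000 in
theorem trace : cert.sTraceOK 1725 target 0x60000800059000af008ff008fc0039300d4500a3000ce100d6700d5500d7a0083800d3400d770053e00d4c000430003d0004c00002 = true := by decide +kernel

end CfsgLib.Spor.HSType.Cert.CocCom
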